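import Mathlib
import Groth.Prelude.Def_EGA4b
import Groth.Agent.Lib.Helper8.GNHens.G4
import Groth.Agent.Lib.Helper8.Hens.QuotHens
import Groth.Agent.Lib.Helper2.FCat5
import Groth.Agent.S9235
import Groth.Agent.S2636
import Groth.Agent.S2641

/-!
# Universal catenarity from geometrically normal formal fibres (EGA IV 18.9.x / 7.x)

* `isEquidim_of_card_le_one`: a ring with at most one minimal prime is equidimensional.
* `isFormallyEquidim_of_unibranch`: a unibranch Noetherian local ring with geometrically normal
  formal fibres is formally equidimensional (its completion has exactly one minimal prime).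
* `isFormallyEquidim_of_henselian_domain`: a henselian Noetherian local domain with geometrically
  normal formal fibres is formally equidimensional.
* `s9229`, `s9230`.
-/

namespace Groth.Agent.H8.UCat
open IsLocalRing
open Groth.Agent.H8.Hens Groth.Agent.H8.Brnch Groth.Agent.H8.GNHens
universe u

/-- A ring with at most one minimal prime is equidimensional. -/
theorem isEquidim_of_card_le_one (R : Type u) [CommRing R]
    (h : ENat.card (minimalPrimes R) ≤ 1) : EGA4.IsEquidim R := by
  intro p hp
  haveI : Subsingleton (minimalPrimes R) := (ENat.card_le_one_iff_subsingleton _).mp h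
  have hall : ∀ q : Ideal R, q.IsPrime → p ≤ q := by
    intro q hq
    obtain ⟨p', hp', hle⟩ := Ideal.exists_minimalPrimes_le (I := ⊥) (J := q) bot_le
    have h1 : (⟨p', hp'⟩ : minimalPrimes R) = ⟨p, hp⟩ := Subsingleton.elim _ _
    have h2 : p' = p := congrArg Subtype.val h1
    exact h2 ▸ hle
  have hz : PrimeSpectrum.zeroLocus (p : Set R) = Set.univ := by
    ext x
    simp only [PrimeSpectrum.mem_zeroLocus, Set.mem_univ, iff_true]
    exact hall x.asIdeal x.isPrime
  rw [ringKrullDim_quotient, ringKrullDim]
  exact Order.krullDim_eq_of_orderIso ((OrderIso.setCongr _ _ hz).trans OrderIso.Set.univ)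

theorem card_minimalPrimes_domain (D : Type u) [CommRing D] [IsDomain D] :
    ENat.card (minimalPrimes D) = 1 := by
  rw [IsDomain.minimalPrimes_eq_singleton_bot]
  simp

/-- A unibranch Noetherian local ring with geometrically normal formal fibres is formally
equidimensional. -/
theorem isFormallyEquidim_of_unibranch (A : Type u) [CommRing A] [IsLocalRing A]
    [IsNoetherianRing A] (hA : EGA4.HasGeomNormalFormalFibres A) (hu : CAlg2.IsUnibranch A) :
    EGA4.IsFormallyEquidim A := by
  haveI hN := OneDim.isNoetherianRing_adicCompletion A
  haveI hH := OneDim.henselianLocalRing_adicCompletion A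
  haveI := isHenselization_self (AdicCompletion (maximalIdeal A) A)
  refine isEquidim_of_card_le_one _ ?_
  rw [card_minimalPrimes_eq_numBranches (AdicCompletion (maximalIdeal A) A)
    (AdicCompletion (maximalIdeal A) A), numBranches_cpl_eq A hA,
    (Groth.Agent.S9235.result A).mpr hu]

/-- A henselian Noetherian local domain with geometrically normal formal fibres is formally
equidimensional. -/
theorem isFormallyEquidim_of_henselian_domain (D : Type u) [CommRing D] [IsDomain D]
    [IsNoetherianRing D] [HenselianLocalRing D] (h : EGA4.HasGeomNormalFormalFibres D) :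
    EGA4.IsFormallyEquidim D := by
  refine isEquidim_of_card_le_one _ ?_
  have h1 := card_minimalPrimes_cpl_of_henselian D h
  change ENat.card (minimalPrimes (EGA4.Cpl D)) ≤ 1
  rw [h1, card_minimalPrimes_domain]

theorem s9229 (A : Type u) [CommRing A] [IsLocalRing A] [IsNoetherianRing A]
    (hA : EGA4.HasGeomNormalFormalFibres A) (hu : CAlg2.IsUnibranch A) :
    CAlg.IsUniversallyCatenary A := by
  have hFE := isFormallyEquidim_of_unibranch A hA hu
  refine Groth.Agent.S2636.result A ?_
  intro p _
  exact Groth.Agent.H2.FCat.isFormallyEquidim_of_essFiniteType_domain A (A ⧸ p) hFE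

theorem s9230 (A S : Type u) [CommRing A] [IsLocalRing A] [IsNoetherianRing A] [CommRing S]
    [IsLocalRing S] [Algebra A S] [IsLocalHom (algebraMap A S)]
    [hS : Hensel.IsHenselization A S] (hA : EGA4.HasGeomNormalFormalFibres A) :
    CAlg.IsUniversallyCatenary S := by
  haveI : IsNoetherianRing S := (isNoetherianRing_iff_of_isHenselization (R := A) S).mp ‹_›
  haveI hHS : HenselianLocalRing S := hS.henselian
  have hGS : EGA4.HasGeomNormalFormalFibres S :=
    hasGeomNormalFormalFibres_of_isHenselization A S hA
  refine Groth.Agent.S2636.result S ?_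
  intro q _
  haveI : HenselianLocalRing (S ⧸ q) := henselianLocalRing_quotient q
  have hGD : EGA4.HasGeomNormalFormalFibres (S ⧸ q) := Groth.Agent.S2641.result S hGS (S ⧸ q)
  exact isFormallyEquidim_of_henselian_domain (S ⧸ q) hGD

end Groth.Agent.H8.UCat
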